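import Groth.Agent.CurveCohLib.Pencil
import Groth.Agent.CurveCohLib.Hopf
import Groth.Agent.CurveCohLib.Clifford
import Groth.Agent.Lib.CurveCanonical
import Groth.Agent.CurveGenusZero.Basic

/-!
Curves of genus nine and Clifford index three: sections of sums of pencils of degree five.
-/

noncomputable section

set_option linter.style.haveILetI false
set_option linter.unusedSectionVars false
set_option backward.isDefEq.respectTransparency false
set_option backward.isDefEq.respectTransparency.types false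

universe u

open CategoryTheory CategoryTheory.Limits AlgebraicGeometry TopologicalSpace Opposite

namespace Groth.Agent.CliffNine

open Groth.Agent Groth.Agent.CurveBundle Groth.Agent.CurveSlope Groth.Agent.CurveStable

variable {X : Scheme.{u}} (k : Type u) [Field k] [IsAlgClosed k] [X.Over (Spec (CommRingCat.of k))]
  [IsIntegral X] [IsProper (X ↘ Spec (CommRingCat.of k))] [Smooth (X ↘ Spec (CommRingCat.of k))]

/-- Clifford index at least three. -/
def CliffGE : Prop :=
  ∀ M : X.Modules, PicF.IsInvertible M → 2 ≤ Module.finrank k (Coh.HH X M 0) →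
    2 ≤ Module.finrank k (Coh.HH X M 1) → 2 * (Module.finrank k (Coh.HH X M 0) : ℤ) + 1 ≤ Curv2.deg k X M 1

variable (hdim : topologicalKrullDim X = 1) (hg : Curv2.genus k X = 9) (hmin : CliffGE (X := X) k)
include hdim hg hmin

omit hmin in
theorem rr {M : X.Modules} (hM : PicF.IsInvertible M) : Curv2.deg k X M 1 =
    (Module.finrank k (Coh.HH X M 0) : ℤ) - Module.finrank k (Coh.HH X M 1) + 8 := by
  rw [CurveCohLib.Clifford.deg_eq k hdim hM, hg]
  ring

theorem bound {M : X.Modules} (hM : PicF.IsInvertible M) :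
    (Module.finrank k (Coh.HH X M 0) : ℤ) ≤ 1 ∨
      (Module.finrank k (Coh.HH X M 0) : ℤ) ≤ Curv2.deg k X M 1 - 7 ∨
      2 * (Module.finrank k (Coh.HH X M 0) : ℤ) + 1 ≤ Curv2.deg k X M 1 := by
  have h := rr k hdim hg hM
  by_cases h0 : 2 ≤ Module.finrank k (Coh.HH X M 0)
  · by_cases h1 : 2 ≤ Module.finrank k (Coh.HH X M 1)
    · exact Or.inr (Or.inr (hmin M hM h0 h1))
    · right; left; omega
  · left; omega

theorem hgg {D : X.Modules} (hD : PicF.IsInvertible D) (hdD : Curv2.deg k X D 1 = 5)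
    (h0D : Module.finrank k (Coh.HH X D 0) = 2) (p : X) (hp : IsClosed ({p} : Set X)) :
    Module.finrank k (Coh.HH X ((DCoh.tensorBi.obj D).obj (CurvePoint.ptMod p hp)) 0) <
      Module.finrank k (Coh.HH X D 0) := by
  have hI := CurvePoint.isInvertible_ptMod p hp k hdim
  have hd := CurveRR.deg_tensor k hdim hD hI
  rw [hdD, CurvePoint.deg_ptMod p hp k] at hd
  have hb := bound k hdim hg hmin (InvX.isInvertible_tensorMod hD hI)
  rw [show Curv2.deg k X (CohB1.tensorMod D (CurvePoint.ptMod p hp)) 1 = _ from hd] at hb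
  change Module.finrank k (Coh.HH X (CohB1.tensorMod D (CurvePoint.ptMod p hp)) 0) < _
  omega

theorem pencil {D N : X.Modules} (hD : PicF.IsInvertible D) (hdD : Curv2.deg k X D 1 = 5)
    (h0D : Module.finrank k (Coh.HH X D 0) = 2) (hN : PicF.IsInvertible N) (hom0 : ∀ φ : D ⟶ N, φ = 0) :
    2 * Module.finrank k (Coh.HH X N 0) ≤ Module.finrank k (Coh.HH X (CohB1.tensorMod D N) 0) :=
  CurveCohLib.Pencil.two_mul_h0_le k hdim hD hN h0D (hgg k hdim hg hmin hD hdD h0D) hom0

omit hg hmin in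
theorem hopf {L L' : X.Modules} (hL : PicF.IsInvertible L) (hL' : PicF.IsInvertible L')
    (h : 0 < Module.finrank k (Coh.HH X L 0)) (h' : 0 < Module.finrank k (Coh.HH X L' 0)) :
    Module.finrank k (Coh.HH X L 0) + Module.finrank k (Coh.HH X L' 0) ≤
      Module.finrank k (Coh.HH X (CohB1.tensorMod L L') 0) + 1 := by
  obtain ⟨P, hP, hr⟩ := CurveGenusZero.exists_regular_closed k hdim (X := X)
  haveI := hr
  exact CurveCohLib.Hopf.finrank_tensor k hdim hP hL hL' (Module.nontrivial_of_finrank_pos h)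
    (Module.nontrivial_of_finrank_pos h')

theorem two_pencils {D₁ D₂ : X.Modules} (h₁ : PicF.IsInvertible D₁) (h₂ : PicF.IsInvertible D₂)
    (hd₁ : Curv2.deg k X D₁ 1 = 5) (hd₂ : Curv2.deg k X D₂ 1 = 5)
    (h0₁ : Module.finrank k (Coh.HH X D₁ 0) = 2) (h0₂ : Module.finrank k (Coh.HH X D₂ 0) = 2)
    (hne : IsEmpty (D₁ ≅ D₂)) :
    Module.finrank k (Coh.HH X (CohB1.tensorMod D₁ D₂) 0) = 4 := by
  have hlow := pencil k hdim hg hmin h₁ hd₁ h0₁ h₂ fun φ => by
    by_contra hφ
    haveI := (CurveDeg.deg_le_and_isIso k hdim.le h₁ h₂ φ hφ).2 (hd₁.trans hd₂.symm)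
    exact hne.false (asIso φ)
  have hb := bound k hdim hg hmin (InvX.isInvertible_tensorMod h₁ h₂)
  have hd : Curv2.deg k X (CohB1.tensorMod D₁ D₂) 1 = 10 :=
    (CurveRR.deg_tensor k hdim h₁ h₂).trans (by rw [hd₁, hd₂]; rfl)
  rw [hd] at hb
  omega

theorem powers {D : X.Modules} (hD : PicF.IsInvertible D) (hdD : Curv2.deg k X D 1 = 5)
    (h0D : Module.finrank k (Coh.HH X D 0) = 2) :
    (Module.finrank k (Coh.HH X (CohB1.tensorPow D 2) 0) = 3 ∨
        Module.finrank k (Coh.HH X (CohB1.tensorPow D 2) 0) = 4) ∧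
      (Module.finrank k (Coh.HH X (CohB1.tensorPow D 3) 0) = 7 ∨
        Module.finrank k (Coh.HH X (CohB1.tensorPow D 3) 0) = 8) ∧
      (Module.finrank k (Coh.HH X (CohB1.tensorPow D 2) 0) = 3 →
        Module.finrank k (Coh.HH X (CohB1.tensorPow D 3) 0) = 7) := by
  have hp := InvX.isInvertible_tensorPow (X := X) hD
  let e₁ : CohB1.tensorPow D 1 ≅ D := CurveTensor.structureTensorIso D
  have hd1 : Curv2.deg k X (CohB1.tensorPow D 1) 1 = 5 := (CurveRR.deg_congr k e₁ 1).trans hdD
  have h01 : Module.finrank k (Coh.HH X (CohB1.tensorPow D 1) 0) = 2 :=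
    ((CurveCohLib.hhEquiv (k := k) e₁ 0).finrank_eq).trans h0D
  have hd2 : Curv2.deg k X (CohB1.tensorPow D 2) 1 = 10 :=
    (CurveRR.deg_tensor k hdim (hp 1) hD).trans (by rw [hd1, hdD]; rfl)
  have hd3 : Curv2.deg k X (CohB1.tensorPow D 3) 1 = 15 :=
    (CurveRR.deg_tensor k hdim (hp 2) hD).trans (by rw [hd2, hdD]; rfl)
  have hlow2 : 3 ≤ Module.finrank k (Coh.HH X (CohB1.tensorPow D 2) 0) := by
    have := hopf k hdim (hp 1) hD (by omega) (by omega)
    rw [h01, h0D] at this
    change _ ≤ Module.finrank k (Coh.HH X (CohB1.tensorPow D 2) 0) + 1 at this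
    omega
  have hb2 := bound k hdim hg hmin (hp 2)
  have hb3 := bound k hdim hg hmin (hp 3)
  have hr2 := rr k hdim hg (hp 2)
  have hr3 := rr k hdim hg (hp 3)
  rw [hd2] at hb2 hr2
  rw [hd3] at hb3 hr3
  refine ⟨by omega, by omega, fun h2 => ?_⟩
  by_contra h3
  have h31 : 0 < Module.finrank k (Coh.HH X (CohB1.tensorPow D 3) 1) := by omega
  obtain ⟨ω, μ, hω⟩ := CurveDuality.exists_isDualizing k hdim
  obtain ⟨T, hT, ⟨eT⟩⟩ := H23.PicInv.exists_inverse (hp 3)
  have e3 : (DCoh.tensorBi.obj (CohB1.tensorPow D 3)).obj T ≅ Coh.structureModule X := eT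
  have e2 : (DCoh.tensorBi.obj (CohB1.tensorPow D 2)).obj ((DCoh.tensorBi.obj D).obj T) ≅
      Coh.structureModule X := (CurveRR.tensorCompIso (CohB1.tensorPow D 2) D).app T ≪≫ e3
  rw [CurveDuality.finrank_h1_eq k hω hdim (hp 3) e3] at h31
  have hω' : Module.finrank k (Coh.HH X (CohB1.tensorPow D 2) 1) = _ :=
    CurveDuality.finrank_h1_eq k hω hdim (hp 2) e2
  have hh := hopf k hdim hD (InvX.isInvertible_tensorMod hT hω.inv) (by omega) h31
  have eE : CohB1.tensorMod D (CohB1.tensorMod T ω) ≅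
      (DCoh.tensorBi.obj ((DCoh.tensorBi.obj D).obj T)).obj ω := (CurveRR.tensorCompIso D T).app ω
  rw [(CurveCohLib.hhEquiv (k := k) eE 0).finrank_eq, ← hω', h0D] at hh
  change 2 + Module.finrank k (Coh.HH X ((DCoh.tensorBi.obj T).obj ω) 0) ≤ _ at hh
  omega

theorem residual {H D N : X.Modules} (hH : PicF.IsInvertible H) (hdH : Curv2.deg k X H 1 = 7)
    (h0H : Module.finrank k (Coh.HH X H 0) = 3) (hD : PicF.IsInvertible D)
    (hdD : Curv2.deg k X D 1 = 5) (h0D : Module.finrank k (Coh.HH X D 0) = 2)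
    (e : CohB1.tensorMod D N ≅ H) : Module.finrank k (Coh.HH X N 0) = 1 := by
  haveI := CurveCohLib.isNoetherian_of_proper (k := k) (X := X)
  obtain ⟨D', hD', ⟨eD⟩⟩ := H23.PicInv.exists_inverse hD
  have e' : (DCoh.tensorBi.obj D').obj D ≅ Coh.structureModule X := CurveTensor.commIso D' D ≪≫ eD
  let u : (DCoh.tensorBi.obj D').obj H ≅ N :=
    (DCoh.tensorBi.obj D').mapIso e.symm ≪≫ (CurveRR.cancelIso e').app N
  have hD'H := InvX.isInvertible_tensorMod hD' hH
  have hdN : Curv2.deg k X (CohB1.tensorMod D' H) 1 = 2 := by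
    have h1 := CurveRR.deg_tensor k hdim hD' hD
    have h2 := CurveRR.deg_congr k e' 1
    rw [CurveDeg.deg_structureModule] at h2
    refine (CurveRR.deg_tensor k hdim hD' hH).trans ?_
    rw [hdH]; linarith
  rw [← (CurveCohLib.hhEquiv (k := k) u 0).finrank_eq]
  have hb := bound k hdim hg hmin hD'H
  rw [hdN] at hb
  have hub : Module.finrank k (Coh.HH X (CohB1.tensorMod D' H) 0) ≤ 1 := by omega
  change Module.finrank k (Coh.HH X (CohB1.tensorMod D' H) 0) = 1
  by_contra hne
  have hz : Module.finrank k (Coh.HH X (CohB1.tensorMod D' H) 0) = 0 := by omega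
  have hom0 : ∀ φ : D ⟶ H, φ = 0 := fun φ => by
    obtain ⟨t, ht⟩ := CurveDuality.exists_homOfTwist k eD φ
    haveI : Subsingleton (Coh.HH X ((DCoh.tensorBi.obj D').obj H) 0) := by
      haveI := CurveCohLib.finite_HH (k := k) (CurveDeg.isCoh_of_isInvertible hD'H) 0
      exact (Module.finrank_zero_iff.1 hz : Subsingleton (Coh.HH X (CohB1.tensorMod D' H) 0))
    by_contra hφ
    refine hφ ?_
    rw [← ht, Subsingleton.elim t 0]
    have h0 : CurveSpecial.homOfClass (0 : Coh.HH X ((DCoh.tensorBi.obj D').obj H) 0) = 0 := by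
      have h := CurveSpecial.homOfClass_add (0 : Coh.HH X ((DCoh.tensorBi.obj D').obj H) 0) 0
      rw [add_zero] at h
      exact left_eq_add.1 h
    unfold CurveDuality.homOfTwist
    rw [h0, Functor.map_zero, zero_comp, comp_zero]
  have h6 := pencil k hdim hg hmin hD hdD h0D hH hom0
  have hb' := bound k hdim hg hmin (InvX.isInvertible_tensorMod hD hH)
  rw [show Curv2.deg k X (CohB1.tensorMod D H) 1 = _ from CurveRR.deg_tensor k hdim hD hH, hdD, hdH] at hb'
  omega

end Groth.Agent.CliffNine
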